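import Groth.Agent.Lib.GrpdSlice19.Step
import Groth.Agent.Lib.GrpQuot.LargestOpen
import Groth.Agent.Lib.FibreCM5.Constr
import Groth.Agent.Lib.FlatH4.FlatComp
import Groth.Agent.Lib.Slice.Saturation

/-! # Slices of a Cohen–Macaulay groupoid of the smallest relative dimension -/

set_option autoImplicit false
set_option linter.style.haveILetI false
universe u

open CategoryTheory CategoryTheory.Limits AlgebraicGeometry IsLocalRing Topology

namespace Groth.Agent.GrpdSlice19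

open Groth.Agent.GrpdB

variable {X Y : Scheme.{u}}

theorem isCMAt_iff (f : X ⟶ Y) (x : X) : Grpd.IsCMAt f x ↔ MoreMor.IsCMAt f x := by
  obtain ⟨e⟩ := FlatDepth.nonempty_fiberStalkEquiv f x
  exact and_congr Iff.rfl ⟨SMT.isCM_of_ringEquiv e, SMT.isCM_of_ringEquiv e.symm⟩

theorem isCMAt_comp_left_iff {Z : Scheme.{u}} (j : Z ⟶ X) [IsOpenImmersion j] (f : X ⟶ Y) (z : Z) :
    Grpd.IsCMAt (j ≫ f) z ↔ Grpd.IsCMAt f (j z) := by
  rw [isCMAt_iff, isCMAt_iff]
  exact and_congr (FlatH4.flat_stalkMap_comp_left_iff j f z) (FibreCM5.isCM_fibre_comp_iff j f z)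

/-- The base change of a Cohen–Macaulay morphism. -/
theorem isCMAt_bc {X' Y' : Scheme.{u}} {f : X ⟶ Y} {f' : X' ⟶ Y'} {g' : X' ⟶ X} {b : Y' ⟶ Y}
    [LocallyOfFiniteType f] (sq : IsPullback g' f' f b) (h : ∀ x, Grpd.IsCMAt f x) (x' : X') :
    Grpd.IsCMAt f' x' := by
  rw [isCMAt_iff]
  have h' := (isCMAt_iff _ _).1 (h (g' x'))
  exact ⟨FlatH4.flat_stalkMap_baseChange sq.flip x' h'.1, (FibreCM5.isCM_fibre_bc_iff sq x').2 h'.2⟩

variable {S : Scheme.{u}} (G : Grpd.GroupoidScheme S)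

theorem exists_start [LocallyOfFinitePresentation G.s] (hs : ∀ r : G.R, Grpd.IsCMAt G.s r) (u : G.U) :
    ∃ (U' : Scheme.{u}) (_ : IsAffine U') (g : U' ⟶ G.U) (u' : U'), IsImmersion g ∧
      LocallyOfFinitePresentation g ∧ g u' = u ∧ Grpd.IsCMAt (hmap G g) (sec G g u') ∧
      FlatMor.fibreDimAt (hmap G g) (sec G g u') = FlatMor.fibreDimAt G.s (G.e u) := by
  obtain ⟨V, hV, huV, -⟩ := exists_isAffineOpen_mem_and_subset (X := G.U) (x := u) (U := ⊤) trivial
  have he : pullback.snd V.ι G.t (sec G V.ι ⟨u, huV⟩) = G.e u := snd_sec G V.ι ⟨u, huV⟩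
  refine ⟨V, hV, V.ι, ⟨u, huV⟩, inferInstance, inferInstance, rfl, ?_, ?_⟩
  · exact (isCMAt_comp_left_iff _ G.s _).2 (hs _)
  · rw [FibDim14.fibreDimAt_etale_comp, he]

/-- Iterating the step. -/
theorem exists_slices [LocallyOfFinitePresentation G.s] [LocallyOfFinitePresentation G.t] (u : G.U)
    (hu : LocallyOfFiniteType (G.U.fromSpecResidueField u)) :
    ∀ (n : ℕ) (U' : Scheme.{u}) (_ : IsAffine U') (g : U' ⟶ G.U) (u' : U'), IsImmersion g →
      LocallyOfFinitePresentation g → g u' = u → Grpd.IsCMAt (hmap G g) (sec G g u') →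
      FlatMor.fibreDimAt (hmap G g) (sec G g u') ≤ (n : WithBot ℕ∞) →
    ∃ (U'' : Scheme.{u}) (_ : IsAffine U'') (g' : U'' ⟶ G.U) (u'' : U''), IsImmersion g' ∧
      LocallyOfFinitePresentation g' ∧ g' u'' = u ∧ Grpd.IsCMAt (hmap G g') (sec G g' u'') ∧
      FlatMor.fibreDimAt (hmap G g') (sec G g' u'') = topologicalKrullDim ↥(G.stabilizerToU.fiber u) := by
  intro n
  induction n using Nat.strong_induction_on with
  | _ n ih =>
    intro U' hU' g u' hg hg' hgu hcm hn
    subst hgu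
    by_cases he : FlatMor.fibreDimAt (hmap G g) (sec G g u') = topologicalKrullDim ↥(G.stabilizerToU.fiber (g u'))
    · exact ⟨U', hU', g, u', hg, hg', rfl, hcm, he⟩
    obtain ⟨U'', hU'', g', u'', h1, h2, h3, h4, h5⟩ := exists_step G g u' hu hcm
      (lt_of_le_of_ne (le_fibreDimAt G g u' hu) (Ne.symm he))
    haveI := h1
    haveI := h2
    obtain ⟨x', -, -, hd, -⟩ := FibDim14.exists_fibreDimAt_eq (hmap G g') (sec G g' u'')
    rw [hd] at h5
    rw [← h5] at hn
    have hlt : FibDim14.rd (hmap G g') x' + 1 ≤ n := by exact_mod_cast hn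
    exact ih (FibDim14.rd (hmap G g') x') (by omega) U'' hU'' g' u'' h1 h2 h3 h4 hd.le

theorem exists_min [LocallyOfFinitePresentation G.s] [LocallyOfFinitePresentation G.t]
    (hs : ∀ r : G.R, Grpd.IsCMAt G.s r) (u : G.U) (hu : LocallyOfFiniteType (G.U.fromSpecResidueField u)) :
    ∃ (U' : Scheme.{u}) (_ : IsAffine U') (g : U' ⟶ G.U) (u' : U'), IsImmersion g ∧
      LocallyOfFinitePresentation g ∧ g u' = u ∧ Grpd.IsCMAt (hmap G g) (sec G g u') ∧
      FlatMor.fibreDimAt (hmap G g) (sec G g u') = topologicalKrullDim ↥(G.stabilizerToU.fiber u) := by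
  obtain ⟨U', hU', g, u', h1, h2, h3, h4, -⟩ := exists_start G hs u
  haveI := h1
  haveI := h2
  obtain ⟨x', -, -, hd, -⟩ := FibDim14.exists_fibreDimAt_eq (hmap G g) (sec G g u')
  exact exists_slices G u hu _ U' hU' g u' h1 h2 h3 h4 hd.le

section Shrink

/-- Locally of finite type and Cohen–Macaulay at every point. -/
def cmMor : MorphismProperty Scheme.{u} := fun _ _ f => LocallyOfFiniteType f ∧ ∀ x, MoreMor.IsCMAt f x

instance : (cmMor.{u}).RespectsIso := by
  refine MorphismProperty.RespectsIso.mk _ (fun e f hf => ?_) (fun e f hf => ?_)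
  · haveI := hf.1
    exact ⟨inferInstance, fun x => (isCMAt_iff _ _).1 ((isCMAt_comp_left_iff e.hom f x).2 ((isCMAt_iff _ _).2 (hf.2 _)))⟩
  · haveI := hf.1
    exact ⟨inferInstance, fun x => (isCMAt_iff _ _).1 (isCMAt_bc (g' := 𝟙 _) (b := e.inv)
      (IsPullback.of_horiz_isIso ⟨by rw [Category.id_comp, Category.assoc, e.hom_inv_id, Category.comp_id]⟩)
      (fun y => (isCMAt_iff _ _).2 (hf.2 y)) x)⟩

variable (X) in
/-- The Cohen–Macaulay locus. -/
def cmOpen {Y : Scheme.{u}} (f : X ⟶ Y) (hf : LocallyOfFinitePresentation f) : X.Opens :=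
  ⟨{x | MoreMor.IsCMAt f x}, haveI := hf; FibreCM5.isOpen_isCMAt f⟩

theorem cmOpen_bc {Y' : Scheme.{u}} (f : X ⟶ Y) (hf : LocallyOfFinitePresentation f) (b : Y' ⟶ Y) [Flat b]
    (hf' : LocallyOfFinitePresentation (pullback.snd f b)) :
    pullback.fst f b ⁻¹ᵁ cmOpen X f hf = cmOpen _ (pullback.snd f b) hf' := by
  haveI := hf
  have sq := IsPullback.of_hasPullback f b
  ext z
  show MoreMor.IsCMAt f (pullback.fst f b z) ↔ MoreMor.IsCMAt (pullback.snd f b) z
  exact ⟨fun h => ⟨FlatH4.flat_stalkMap_baseChange sq.flip z h.1, (FibreCM5.isCM_fibre_bc_iff sq z).2 h.2⟩,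
    fun h => ⟨Slice.flat_stalkMap_of_isPullback sq z h.1, (FibreCM5.isCM_fibre_bc_iff sq z).1 h.2⟩⟩

/-- The Cohen–Macaulay locus of `h` is pulled back from the slice. -/
theorem exists_cm_open [LocallyOfFinitePresentation G.s] [LocallyOfFinitePresentation G.t] [Flat G.s] [Flat G.t]
    {U' : Scheme.{u}} (g : U' ⟶ G.U) [LocallyOfFinitePresentation g] :
    ∃ V : U'.Opens, ∀ z, pullback.fst g G.t z ∈ V ↔ Grpd.IsCMAt (hmap G g) z := by
  obtain ⟨V, hV⟩ := GrpQuot.LargestOpen.exists_open G g cmMor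
    @LocallyOfFinitePresentation (@Flat ⊓ @LocallyOfFinitePresentation) (fun f hf => cmOpen _ f hf)
    (fun f hf => ⟨haveI := hf; inferInstance, fun x => ((isCMAt_iff _ _).symm.trans
      ((isCMAt_comp_left_iff (cmOpen _ f hf).ι f x).trans (isCMAt_iff _ _))).2 x.2⟩)
    (fun f hf W hW x hx => ((isCMAt_iff _ _).symm.trans
      ((isCMAt_comp_left_iff W.ι f ⟨x, hx⟩).trans (isCMAt_iff _ _))).1 (hW.2 _))
    (fun f hf b hb hf' => haveI : Flat b := hb.1; cmOpen_bc f hf b hf')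
    ⟨inferInstance, inferInstance⟩ ⟨inferInstance, inferInstance⟩ (inferInstanceAs (LocallyOfFinitePresentation _))
  refine ⟨V, fun z => ?_⟩
  rw [isCMAt_iff, ← Scheme.Hom.mem_preimage, hV]
  rfl

end Shrink

theorem flat_of_isCMAt (f : X ⟶ Y) (h : ∀ x, Grpd.IsCMAt f x) : Flat f :=
  Flat.of_stalkMap _ fun x => (h x).1

/-- A slice on which `h` is Cohen–Macaulay everywhere. -/
theorem exists_max_slice [LocallyOfFinitePresentation G.s] [LocallyOfFinitePresentation G.t]
    (hs : ∀ r : G.R, Grpd.IsCMAt G.s r) (ht : ∀ r : G.R, Grpd.IsCMAt G.t r) (u : G.U)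
    (hu : LocallyOfFiniteType (G.U.fromSpecResidueField u)) :
    ∃ (U' : Scheme.{u}) (_ : IsAffine U') (g : U' ⟶ G.U) (u' : U'), IsImmersion g ∧
      LocallyOfFinitePresentation g ∧ g u' = u ∧ (∀ q, Grpd.IsCMAt (hmap G g) q) ∧
      FlatMor.fibreDimAt (hmap G g) (sec G g u') = topologicalKrullDim ↥(G.stabilizerToU.fiber u) := by
  obtain ⟨U₁, hU₁, g, u₁, h1, h2, h3, h4, h5⟩ := exists_min G hs u hu
  haveI := h1
  haveI := h2
  haveI := flat_of_isCMAt G.s hs
  haveI := flat_of_isCMAt G.t ht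
  obtain ⟨V, hV⟩ := exists_cm_open G g
  have hmem : u₁ ∈ V := by
    have := (hV (sec G g u₁)).2 h4
    rwa [fst_sec] at this
  obtain ⟨O, hO, huO, hOV⟩ := exists_isAffineOpen_mem_and_subset (X := U₁) (x := u₁) (U := V) hmem
  let g' := O.ι ≫ g
  let k : pullback g' G.t ⟶ pullback g G.t :=
    pullback.map g' G.t g G.t O.ι (𝟙 _) (𝟙 _) (Category.comp_id _) (by rw [Category.id_comp, Category.comp_id])
  have hk : k ≫ pullback.snd g G.t = pullback.snd g' G.t := (pullback.lift_snd _ _ _).trans (Category.comp_id _)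
  have sq : IsPullback k (pullback.fst g' G.t) (pullback.fst g G.t) O.ι := by
    refine IsPullback.of_right ?_ (pullback.lift_fst _ _ _) (IsPullback.of_hasPullback g G.t).flip
    rw [hk]
    exact (IsPullback.of_hasPullback g' G.t).flip
  haveI : IsOpenImmersion k := MorphismProperty.of_isPullback sq.flip inferInstance
  have hkh : hmap G g' = k ≫ hmap G g := by rw [← Category.assoc, hk]
  refine ⟨O, hO, g', ⟨u₁, huO⟩, inferInstance, inferInstance, h3, fun q => ?_, ?_⟩
  · rw [hkh, isCMAt_comp_left_iff, ← hV]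
    have := congrArg (fun m => (m : pullback g' G.t ⟶ U₁) q) sq.w
    simp only [Scheme.Hom.comp_apply] at this
    rw [this]
    exact hOV (pullback.fst g' G.t q).2
  · have hkz : k (sec G g' ⟨u₁, huO⟩) = sec G g u₁ := by
      apply (pullback.snd g G.t).isEmbedding.injective
      rw [← Scheme.Hom.comp_apply, hk, snd_sec, snd_sec]
      rfl
    rw [hkh, FibDim14.fibreDimAt_etale_comp, hkz, h5]

end Groth.Agent.GrpdSlice19
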