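import Groth.Agent.Lib.GrpdSlice19.Cut
import Groth.Agent.Lib.GrpdDim19.Equidim
import Groth.Agent.Lib.GrpdEt19.Restr
import Groth.Agent.Lib.DimF18.Prod

/-! # One slicing step for a Cohen–Macaulay groupoid -/

set_option autoImplicit false
set_option linter.style.haveILetI false
universe u

open CategoryTheory CategoryTheory.Limits AlgebraicGeometry IsLocalRing Topology

namespace Groth.Agent.GrpdSlice19

open Groth.Agent.GrpdB

theorem exists_fac_residue {X Y : Scheme.{u}} (f : X ⟶ Y) (x : X) {y : Y} (h : f x = y) :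
    ∃ m : Spec (X.residueField x) ⟶ Spec (Y.residueField y),
      X.fromSpecResidueField x ≫ f = m ≫ Y.fromSpecResidueField y := by
  subst h
  exact ⟨Spec.map (f.residueFieldMap x), (Scheme.Hom.SpecMap_residueFieldMap_fromSpecResidueField f x).symm⟩

theorem rd_eq_zero_of_surjectiveOnStalks {X Y : Scheme.{u}} (f : X ⟶ Y) [SurjectiveOnStalks f] (x : X) :
    FibDim14.rd f x = 0 := by
  rw [FibDim14.rd, FibDim14.rdeg_eq_zero, map_zero]

/-- A point of a preimmersion gives back the residue field of its image. -/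
theorem exists_fac_preimmersion {X Y : Scheme.{u}} (g : X ⟶ Y) [IsPreimmersion g] (x : X) :
    ∃ w : Spec (Y.residueField (g x)) ⟶ X, w ≫ g = Y.fromSpecResidueField (g x) := by
  haveI : IsIso (g.residueFieldMap x) := by
    refine (ConcreteCategory.isIso_iff_bijective _).2 ⟨(g.residueFieldMap x).hom.injective, fun b => ?_⟩
    obtain ⟨b, rfl⟩ := Scheme.residue_surjective X x b
    obtain ⟨a, rfl⟩ := g.stalkMap_surjective x b
    exact ⟨Y.residue _ a, ConcreteCategory.congr_hom (Scheme.residue_residueFieldMap g x) a⟩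
  refine ⟨Spec.map (inv (g.residueFieldMap x)) ≫ X.fromSpecResidueField x, ?_⟩
  rw [Category.assoc, ← Scheme.Hom.SpecMap_residueFieldMap_fromSpecResidueField, ← Category.assoc,
    ← Spec.map_comp, IsIso.hom_inv_id, Spec.map_id, Category.id_comp]

variable {S : Scheme.{u}} (G : Grpd.GroupoidScheme S)

section Point

variable (u : G.U)

/-- The restriction of the groupoid to a point. -/
noncomputable abbrev atPt : Grpd.GroupoidScheme S := GrpdEt19.restrict G (G.U.fromSpecResidueField u)

theorem isPreimmersion_pairMap : IsPreimmersion (GrpdEt19.pairMap G (G.U.fromSpecResidueField u)) :=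
  MorphismProperty.pullbackMap (P := @IsPreimmersion) inferInstance inferInstance rfl rfl

theorem isPreimmersion_rF : IsPreimmersion (GrpdEt19.rF G (G.U.fromSpecResidueField u)) := by
  haveI := isPreimmersion_pairMap G u
  exact inferInstanceAs (IsPreimmersion (pullback.fst _ _))

theorem locallyOfFiniteType_rF (hu : LocallyOfFiniteType (G.U.fromSpecResidueField u)) :
    LocallyOfFiniteType (GrpdEt19.rF G (G.U.fromSpecResidueField u)) := by
  haveI : LocallyOfFiniteType (GrpdEt19.pairMap G (G.U.fromSpecResidueField u)) :=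
    MorphismProperty.pullbackMap (P := @LocallyOfFiniteType) hu hu rfl rfl
  exact inferInstanceAs (LocallyOfFiniteType (pullback.fst _ _))

theorem locallyOfFiniteType_rS [LocallyOfFiniteType G.s]
    (hu : LocallyOfFiniteType (G.U.fromSpecResidueField u)) :
    LocallyOfFiniteType (GrpdEt19.rS G (G.U.fromSpecResidueField u)) := by
  haveI := locallyOfFiniteType_rF G u hu
  haveI : LocallyOfFiniteType (GrpdEt19.rS G (G.U.fromSpecResidueField u) ≫ G.U.fromSpecResidueField u) := by
    rw [← GrpdEt19.rF_s]; infer_instance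
  exact locallyOfFiniteType_of_comp _ (G.U.fromSpecResidueField u)

theorem topologicalKrullDim_atPt [LocallyOfFiniteType G.s]
    (hu : LocallyOfFiniteType (G.U.fromSpecResidueField u)) :
    topologicalKrullDim ↥(atPt G u).R = topologicalKrullDim ↥(G.stabilizerToU.fiber u) := by
  haveI : LocallyOfFiniteType (atPt G u).s := locallyOfFiniteType_rS G u hu
  rw [GrpdDim19.dim_eq (k := G.U.residueField u) (atPt G u) (Iso.refl _)]
  let H := atPt G u
  let a := G.U.fromSpecResidueField u
  have h1 := (IsPullback.of_hasPullback H.j H.diag).paste_horiz (GrpdEt19.isPullback_restrict G a)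
  have h0 : IsPullback (pullback.fst G.j G.diag) G.stabilizerToU G.j G.diag := IsPullback.of_hasPullback _ _
  have h2 := (IsPullback.of_hasPullback G.stabilizerToU a).paste_horiz h0
  have e : (pullback.lift (𝟙 _) (𝟙 _) rfl : Spec (G.U.residueField u) ⟶ pullback (a ≫ G.pU) (a ≫ G.pU)) ≫
      GrpdEt19.pairMap G a = a ≫ G.diag := by
    apply pullback.hom_ext
    · rw [Category.assoc, GrpdEt19.pairMap, pullback.lift_fst, pullback.lift_fst_assoc, Category.id_comp,
        Category.assoc, diag_fst, Category.comp_id]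
    · rw [Category.assoc, GrpdEt19.pairMap, pullback.lift_snd, pullback.lift_snd_assoc, Category.id_comp,
        Category.assoc, diag_snd, Category.comp_id]
  have h3 : IsPullback (pullback.fst H.j H.diag ≫ GrpdEt19.rF G a) (pullback.snd H.j H.diag) G.j (a ≫ G.diag) :=
    (congrArg (fun x => IsPullback (pullback.fst H.j H.diag ≫ GrpdEt19.rF G a) (pullback.snd H.j H.diag) G.j x) e).mp h1
  exact IsHomeomorph.topologicalKrullDim_eq _ (h3.isoPullback ≪≫ h2.isoPullback.symm).hom.homeomorph.isHomeomorph

theorem rd_le_dim [LocallyOfFiniteType G.s] (hu : LocallyOfFiniteType (G.U.fromSpecResidueField u))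
    (r : G.R) (hs : G.s r = u) (ht : G.t r = u) :
    (FibDim14.rd G.s r : WithBot ℕ∞) ≤ topologicalKrullDim ↥(G.stabilizerToU.fiber u) := by
  rw [← topologicalKrullDim_atPt G u hu]
  let a := G.U.fromSpecResidueField u
  haveI : LocallyOfFiniteType a := hu
  obtain ⟨ss, hss⟩ := exists_fac_residue G.s r hs
  obtain ⟨tt, htt⟩ := exists_fac_residue G.t r ht
  haveI := locallyOfFiniteType_rF G u hu
  haveI := locallyOfFiniteType_rS G u hu
  let ω := GrpdEt19.rMk G a (G.R.fromSpecResidueField r) tt ss htt hss (closedPoint _)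
  have hω : GrpdEt19.rF G a ω = r := by
    rw [← Scheme.Hom.comp_apply, GrpdEt19.rMk_F, Scheme.fromSpecResidueField_apply]
  have h1 := FibDim14.rd_comp (GrpdEt19.rF G a) G.s ω
  have h2 := FibDim14.rd_comp (GrpdEt19.rS G a) a ω
  rw [hω] at h1
  have h3 : FibDim14.rd (GrpdEt19.rF G a ≫ G.s) ω = FibDim14.rd (GrpdEt19.rS G a ≫ a) ω := by
    congr 1
    exact GrpdEt19.rF_s G a
  have h4 : FibDim14.rd a (GrpdEt19.rS G a ω) = 0 := rd_eq_zero_of_surjectiveOnStalks a _
  have h5 : FibDim14.rd G.s r ≤ FibDim14.rd (GrpdEt19.rS G a) ω := by omega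
  refine le_trans (by exact_mod_cast h5) ((FibDim14.rd_le_fibreDimAt (GrpdEt19.rS G a) (specializes_refl ω) rfl).trans ?_)
  exact (TopDimLib.localDim_le _).trans (Scheme.Hom.fiberι _ _).isEmbedding.isInducing.topologicalKrullDim_le

end Point

variable {U' : Scheme.{u}} (g : U' ⟶ G.U)

/-- The identity section of `U' ×_U R`. -/
noncomputable def sec : U' ⟶ pullback g G.t :=
  pullback.lift (𝟙 U') (g ≫ G.e) (by rw [Category.id_comp, Category.assoc, G.e_t, Category.comp_id])

/-- The map `h = s ∘ pr₁`. -/
noncomputable abbrev hmap : pullback g G.t ⟶ G.U := pullback.snd g G.t ≫ G.s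

theorem sec_fst : sec G g ≫ pullback.fst g G.t = 𝟙 U' := pullback.lift_fst _ _ _

theorem sec_snd : sec G g ≫ pullback.snd g G.t = g ≫ G.e := pullback.lift_snd _ _ _

theorem sec_hmap : sec G g ≫ hmap G g = g := by
  rw [← Category.assoc, sec_snd, Category.assoc, G.e_s, Category.comp_id]

theorem hmap_sec (u' : U') : hmap G g (sec G g u') = g u' := by
  rw [← Scheme.Hom.comp_apply, sec_hmap]

theorem fst_sec (u' : U') : pullback.fst g G.t (sec G g u') = u' := by
  rw [← Scheme.Hom.comp_apply, sec_fst]; rfl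

theorem snd_sec (u' : U') : pullback.snd g G.t (sec G g u') = G.e (g u') := by
  rw [← Scheme.Hom.comp_apply, sec_snd]; rfl

theorem rd_sec [LocallyOfFiniteType g] [LocallyOfFiniteType G.s] [IsImmersion g] (u' : U') :
    FibDim14.rd (hmap G g) (sec G g u') = 0 := by
  haveI : LocallyOfFiniteType (sec G g) := by
    haveI : LocallyOfFiniteType (sec G g ≫ pullback.fst g G.t) := by rw [sec_fst]; infer_instance
    exact locallyOfFiniteType_of_comp (sec G g) (pullback.fst g G.t)
  have h := FibDim14.rd_comp (sec G g) (hmap G g) u'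
  have h' : FibDim14.rd (sec G g ≫ hmap G g) u' = FibDim14.rd g u' := by
    congr 1
    exact sec_hmap G g
  rw [rd_eq_zero_of_surjectiveOnStalks g u'] at h'
  omega

theorem le_fibreDimAt [LocallyOfFiniteType G.s] [IsImmersion g] (u' : U')
    (hu : LocallyOfFiniteType (G.U.fromSpecResidueField (g u'))) :
    topologicalKrullDim ↥(G.stabilizerToU.fiber (g u')) ≤ FlatMor.fibreDimAt (hmap G g) (sec G g u') := by
  rw [← topologicalKrullDim_atPt G (g u') hu]
  let H := atPt G (g u')
  let a := G.U.fromSpecResidueField (g u')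
  haveI : LocallyOfFiniteType H.s := locallyOfFiniteType_rS G (g u') hu
  haveI := isPreimmersion_rF G (g u')
  obtain ⟨w, hw⟩ := exists_fac_preimmersion g u'
  let m : GrpdEt19.rR G a ⟶ pullback g G.t := pullback.lift (GrpdEt19.rT G a ≫ w) (GrpdEt19.rF G a)
    (by rw [Category.assoc, hw, GrpdEt19.rF_t])
  have hm : m ≫ hmap G g = GrpdEt19.rS G a ≫ a := by
    rw [← Category.assoc, pullback.lift_snd, GrpdEt19.rF_s]
  have hmem : ∀ z : GrpdEt19.rR G a, hmap G g (m z) = hmap G g (sec G g u') := fun z => by
    have ha : ∀ y, a y = g u' := fun y => Scheme.fromSpecResidueField_apply _ _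
    rw [hmap_sec, ← Scheme.Hom.comp_apply, hm, Scheme.Hom.comp_apply, ha]
  have hemb : IsEmbedding fun z => (⟨m z, hmem z⟩ : (hmap G g ⁻¹' {hmap G g (sec G g u')} : Set _)) := by
    have h : IsEmbedding (pullback.snd g G.t ∘ m) := by
      have := (GrpdEt19.rF G a).isEmbedding
      rwa [show GrpdEt19.rF G a = m ≫ pullback.snd g G.t from (pullback.lift_snd _ _ _).symm] at this
    exact IsEmbedding.of_comp (m.continuous.subtype_mk _) continuous_subtype_val
      (IsEmbedding.of_comp m.continuous (pullback.snd g G.t).continuous h)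
  let ωe : GrpdEt19.rR G a := GrpdEt19.rE G a (closedPoint (G.U.residueField (g u')))
  rw [← ((GrpdDim19.equidim (k := G.U.residueField (g u')) H (Iso.refl _)).2 ωe),
    FibDim14.fibreDimAt_eq_localDim_preimage]
  refine (FibDim14.localDim_le_of_isEmbedding hemb ωe).trans (le_of_eq ?_)
  congr 1
  refine Subtype.ext ?_
  show m ωe = sec G g u'
  apply (pullback.snd g G.t).isEmbedding.injective
  rw [snd_sec, ← Scheme.Hom.comp_apply, pullback.lift_snd, ← Scheme.Hom.comp_apply, GrpdEt19.rE,
    GrpdEt19.rMk_F, Scheme.Hom.comp_apply, Scheme.fromSpecResidueField_apply]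

/-- One step. -/
theorem exists_step [LocallyOfFinitePresentation G.s] [LocallyOfFinitePresentation G.t] [IsAffine U']
    [IsImmersion g] [LocallyOfFinitePresentation g] (u' : U')
    (hu : LocallyOfFiniteType (G.U.fromSpecResidueField (g u')))
    (hcm : Grpd.IsCMAt (hmap G g) (sec G g u'))
    (hd : topologicalKrullDim ↥(G.stabilizerToU.fiber (g u')) < FlatMor.fibreDimAt (hmap G g) (sec G g u')) :
    ∃ (U'' : Scheme.{u}) (_ : IsAffine U'') (g' : U'' ⟶ G.U) (u'' : U''), IsImmersion g' ∧
      LocallyOfFinitePresentation g' ∧ g' u'' = g u' ∧ Grpd.IsCMAt (hmap G g') (sec G g' u'') ∧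
      FlatMor.fibreDimAt (hmap G g') (sec G g' u'') + 1 = FlatMor.fibreDimAt (hmap G g) (sec G g u') := by
  obtain ⟨a, ha, hm, hreg⟩ := exists_equation (hmap G g) (pullback.fst g G.t) (sec G g u') hcm
    (fun ξ _ hξ1 hξ2 h => by
      rw [fst_sec] at hξ2
      rw [hmap_sec] at hξ1
      have hs : G.s (pullback.snd g G.t ξ) = g u' := by
        rw [← hξ1]; rfl
      have ht : G.t (pullback.snd g G.t ξ) = g u' := by
        rw [← Scheme.Hom.comp_apply, ← pullback.condition, Scheme.Hom.comp_apply, hξ2]
      have h1 := rd_le_dim G (g u') hu _ hs ht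
      rw [← h, show FibDim14.rd (hmap G g) ξ = FibDim14.rd G.s (pullback.snd g G.t ξ) by
        rw [FibDim14.rd_comp, rd_eq_zero_of_surjectiveOnStalks (pullback.snd g G.t) ξ, add_zero]] at hd
      exact absurd (hd.trans_le h1) (lt_irrefl _))
  rw [fst_sec] at ha
  obtain ⟨u'', hu''⟩ := exists_cutι_eq a ha
  let g' := cutι a ≫ g
  let k : pullback g' G.t ⟶ pullback g G.t :=
    pullback.map g' G.t g G.t (cutι a) (𝟙 _) (𝟙 _) (Category.comp_id _) (by rw [Category.id_comp, Category.comp_id])
  have hk : k ≫ pullback.snd g G.t = pullback.snd g' G.t := (pullback.lift_snd _ _ _).trans (Category.comp_id _)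
  have sq : IsPullback k (pullback.fst g' G.t) (pullback.fst g G.t) (cutι a) := by
    refine IsPullback.of_right ?_ (pullback.lift_fst _ _ _) (IsPullback.of_hasPullback g G.t).flip
    rw [hk]
    exact (IsPullback.of_hasPullback g' G.t).flip
  haveI : IsClosedImmersion k := MorphismProperty.of_isPullback sq.flip inferInstance
  have hsec : sec G g' ≫ k = cutι a ≫ sec G g := by
    apply pullback.hom_ext
    · rw [Category.assoc, pullback.lift_fst, ← Category.assoc, sec_fst, Category.id_comp, Category.assoc, sec_fst,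
        Category.comp_id]
    · rw [Category.assoc, hk, sec_snd, Category.assoc, Category.assoc, sec_snd]
  have hkz : k (sec G g' u'') = sec G g u' := by
    rw [← Scheme.Hom.comp_apply, hsec, Scheme.Hom.comp_apply, hu'']
  have hg' : g' u'' = g u' := by rw [Scheme.Hom.comp_apply, hu'']
  refine ⟨_, inferInstance, g', u'', inferInstance, inferInstance, hg', ?_⟩
  have hh : hmap G g' = k ≫ hmap G g := by rw [← Category.assoc, hk]
  rw [hh]
  haveI : LocallyOfFiniteType g := inferInstance
  haveI : LocallyOfFiniteType G.s := inferInstance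
  have hrd := rd_sec G g u'
  rw [← hkz] at hcm hrd hm hreg ⊢
  exact isCMAt_slice (hmap G g) k _ _ (ker_stalkMap_cut a sq _) hcm hrd hm hreg

end Groth.Agent.GrpdSlice19
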