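import Groth.Agent.Lib.GrpdSlice19.Main
import Groth.Agent.Lib.GrpQuot.Affine
import Groth.Agent.Lib.AffChart4

/-! # The two projections of the restricted arrows; the quasi-finite slice -/

set_option autoImplicit false
set_option linter.style.haveILetI false
universe u

open CategoryTheory CategoryTheory.Limits AlgebraicGeometry IsLocalRing Topology

namespace Groth.Agent.GrpdSlice19

open Groth.Agent.GrpdB

variable {S : Scheme.{u}} (G : Grpd.GroupoidScheme S) {U' : Scheme.{u}} (g : U' ⟶ G.U)

/-- The arrows of the restriction to `U'`. -/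
noncomputable abbrev rArr : Scheme.{u} := pullback (hmap G g) g

theorem flip_cond : (pullback.fst (hmap G g) g ≫ pullback.snd g G.t ≫ G.i) ≫ G.t =
    pullback.snd (hmap G g) g ≫ g := by
  simp only [Category.assoc, G.i_t]
  exact pullback.condition

/-- The inverse arrow, as a point of `U' ×_U R`. -/
noncomputable def flipP : rArr G g ⟶ pullback g G.t :=
  pullback.lift (pullback.snd (hmap G g) g) (pullback.fst (hmap G g) g ≫ pullback.snd g G.t ≫ G.i)
    (flip_cond G g).symm

theorem flipP_hmap : flipP G g ≫ hmap G g = (pullback.fst (hmap G g) g ≫ pullback.fst g G.t) ≫ g := by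
  rw [← Category.assoc, flipP, pullback.lift_snd]
  simp only [Category.assoc, G.i_s]
  rw [pullback.condition]

/-- The inversion of the restricted arrows. -/
noncomputable def flip' : rArr G g ⟶ rArr G g :=
  pullback.lift (flipP G g) (pullback.fst (hmap G g) g ≫ pullback.fst g G.t) (flipP_hmap G g)

theorem flip_flip : flip' G g ≫ flip' G g = 𝟙 _ := by
  apply pullback.hom_ext
  · apply pullback.hom_ext
    · simp only [flip', flipP, Category.assoc, pullback.lift_fst, pullback.lift_snd, Category.id_comp]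
    · simp only [flip', flipP, Category.assoc, pullback.lift_fst, pullback.lift_snd, Category.id_comp,
        pullback.lift_fst_assoc]
      simp only [pullback.lift_snd_assoc, Category.assoc, GrpQuot.i_i, Category.comp_id]
  · simp only [flip', flipP, Category.assoc, pullback.lift_fst, pullback.lift_snd, Category.id_comp,
      pullback.lift_fst_assoc]

instance isIso_flip : IsIso (flip' G g) := ⟨flip' G g, flip_flip G g, flip_flip G g⟩

theorem fst_eq_flip_snd :
    pullback.fst (hmap G g) g ≫ pullback.fst g G.t = flip' G g ≫ pullback.snd (hmap G g) g :=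
  (pullback.lift_snd _ _ _).symm

theorem isCMAt_fst [LocallyOfFiniteType G.s] [LocallyOfFiniteType g] (h : ∀ x, Grpd.IsCMAt (hmap G g) x)
    (q : rArr G g) : Grpd.IsCMAt (pullback.fst (hmap G g) g ≫ pullback.fst g G.t) q := by
  rw [fst_eq_flip_snd, isCMAt_comp_left_iff]
  exact isCMAt_bc (IsPullback.of_hasPullback (hmap G g) g) h _

theorem fst_mem (P : MorphismProperty Scheme.{u}) [P.IsStableUnderBaseChange]
    (h : P (hmap G g)) : P (pullback.fst (hmap G g) g ≫ pullback.fst g G.t) := by
  rw [fst_eq_flip_snd, P.cancel_left_of_respectsIso]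
  exact MorphismProperty.pullback_snd _ _ h

section Good

/-- Flat and locally quasi-finite, locally of finite type. -/
def goodMor : MorphismProperty Scheme.{u} := fun _ _ f =>
  LocallyOfFiniteType f ∧ Flat f ∧ LocallyQuasiFinite f

instance : (goodMor.{u}).RespectsIso := by
  refine MorphismProperty.RespectsIso.mk _ (fun e f hf => ?_) (fun e f hf => ?_) <;>
  · haveI := hf.1
    haveI := hf.2.1
    haveI := hf.2.2
    exact ⟨inferInstance, inferInstance, inferInstance⟩

/-- The flat and quasi-finite locus. -/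
def goodOpen {X Y : Scheme.{u}} (f : X ⟶ Y) (hf : LocallyOfFinitePresentation f) : X.Opens :=
  ⟨{x | Slice.GoodAt f x}, haveI := hf; Slice.isOpen_goodAt f⟩

theorem goodMor_of_forall {X Y : Scheme.{u}} (f : X ⟶ Y) [LocallyOfFiniteType f] (h : ∀ x, Slice.GoodAt f x) :
    goodMor f := by
  refine ⟨inferInstance, Flat.of_stalkMap _ fun x => (h x).1, ?_⟩
  rw [← Scheme.Hom.quasiFiniteLocus_eq_top_iff, eq_top_iff]
  intro x _
  exact (h x).2

theorem goodOpen_bc {X Y Y' : Scheme.{u}} (f : X ⟶ Y) (hf : LocallyOfFinitePresentation f) (b : Y' ⟶ Y) [Flat b]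
    (hf' : LocallyOfFinitePresentation (pullback.snd f b)) :
    pullback.fst f b ⁻¹ᵁ goodOpen f hf = goodOpen (pullback.snd f b) hf' := by
  haveI := hf
  have sq := IsPullback.of_hasPullback f b
  ext z
  exact ⟨fun h => Slice.goodAt_of_isPullback' sq z h, fun h => Slice.goodAt_of_isPullback sq z h⟩

theorem exists_good_open [LocallyOfFinitePresentation G.s] [LocallyOfFinitePresentation G.t] [Flat G.s] [Flat G.t]
    [LocallyOfFinitePresentation g] :
    ∃ V : U'.Opens, ∀ z, pullback.fst g G.t z ∈ V ↔ Slice.GoodAt (hmap G g) z := by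
  obtain ⟨V, hV⟩ := GrpQuot.LargestOpen.exists_open G g goodMor
    @LocallyOfFinitePresentation (@Flat ⊓ @LocallyOfFinitePresentation) (fun f hf => goodOpen f hf)
    (fun f hf => haveI := hf; goodMor_of_forall _ fun x => (Slice.goodAt_comp_left_iff (goodOpen f hf).ι f x).2 x.2)
    (fun f hf W hW x hx => by
      haveI := hW.1; haveI := hW.2.1; haveI := hW.2.2
      exact (Slice.goodAt_comp_left_iff W.ι f ⟨x, hx⟩).1 ⟨Flat.stalkMap _ _, Scheme.Hom.quasiFiniteAt _ _⟩)
    (fun f hf b hb hf' => haveI : Flat b := hb.1; goodOpen_bc f hf b hf')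
    ⟨inferInstance, inferInstance⟩ ⟨inferInstance, inferInstance⟩ (inferInstanceAs (LocallyOfFinitePresentation _))
  refine ⟨V, fun z => ?_⟩
  rw [← Scheme.Hom.mem_preimage, hV]
  rfl

theorem exists_good_slice [LocallyOfFinitePresentation G.s] [LocallyOfFinitePresentation G.t]
    (hs : ∀ r : G.R, Grpd.IsCMAt G.s r) (ht : ∀ r : G.R, Grpd.IsCMAt G.t r)
    [LocallyOfFiniteType G.stabilizerToU] [LocallyQuasiFinite G.stabilizerToU] (u : G.U)
    (hu : LocallyOfFiniteType (G.U.fromSpecResidueField u)) :
    ∃ (U' : Scheme.{u}) (_ : IsAffine U') (g : U' ⟶ G.U) (u' : U'), IsImmersion g ∧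
      LocallyOfFinitePresentation g ∧ g u' = u ∧ Flat (hmap G g) ∧ LocallyQuasiFinite (hmap G g) := by
  obtain ⟨U₁, hU₁, g, u₁, h1, h2, h3, h4, h5⟩ := exists_min G hs u hu
  haveI := h1
  haveI := h2
  haveI := flat_of_isCMAt G.s hs
  haveI := flat_of_isCMAt G.t ht
  have hd : topologicalKrullDim ↥(G.stabilizerToU.fiber u) ≤ 0 := by
    rw [VarDim.dim_eq_iSup_sdim (FibDim14.toPt G.stabilizerToU u)]
    refine iSup_le fun z => ?_
    rw [← FibDim14.rd_fiberι, AffChart4.rd_eq_zero_of_lqf]
    exact le_rfl
  have hqf : (hmap G g).QuasiFiniteAt (sec G g u₁) := by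
    rw [← FibDim14.fibreDimAt_eq_zero_iff]
    obtain ⟨x', -, -, hx', -⟩ := FibDim14.exists_fibreDimAt_eq (hmap G g) (sec G g u₁)
    refine le_antisymm (h5.le.trans hd) ?_
    rw [hx']
    exact_mod_cast Nat.zero_le _
  obtain ⟨V, hV⟩ := exists_good_open G g
  have hmem : u₁ ∈ V := by
    have := (hV (sec G g u₁)).2 ⟨h4.1, hqf⟩
    rwa [fst_sec] at this
  obtain ⟨O, hO, huO, hOV⟩ := exists_isAffineOpen_mem_and_subset (X := U₁) (x := u₁) (U := V) hmem
  let g' := O.ι ≫ g
  let k : pullback g' G.t ⟶ pullback g G.t :=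
    pullback.map g' G.t g G.t O.ι (𝟙 _) (𝟙 _) (Category.comp_id _) (by rw [Category.id_comp, Category.comp_id])
  have hk : k ≫ pullback.snd g G.t = pullback.snd g' G.t := (pullback.lift_snd _ _ _).trans (Category.comp_id _)
  have sq : IsPullback k (pullback.fst g' G.t) (pullback.fst g G.t) O.ι := by
    refine IsPullback.of_right ?_ (pullback.lift_fst _ _ _) (IsPullback.of_hasPullback g G.t).flip
    rw [hk]
    exact (IsPullback.of_hasPullback g' G.t).flip
  haveI : IsOpenImmersion k := MorphismProperty.of_isPullback sq.flip inferInstance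
  have hkh : hmap G g' = k ≫ hmap G g := by rw [← Category.assoc, hk]
  have hgood : goodMor (hmap G g') := by
    refine goodMor_of_forall _ fun q => ?_
    rw [hkh, Slice.goodAt_comp_left_iff, ← hV]
    have := congrArg (fun m => (m : pullback g' G.t ⟶ U₁) q) sq.w
    simp only [Scheme.Hom.comp_apply] at this
    rw [this]
    exact hOV (pullback.fst g' G.t q).2
  exact ⟨O, hO, g', ⟨u₁, huO⟩, inferInstance, inferInstance, h3, hgood.2.1, hgood.2.2⟩

end Good

end Groth.Agent.GrpdSlice19
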