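import Groth.Agent.Lib.GrpdSlice19.Basic
import Groth.Agent.Lib.RegImm26.Noeth

/-! # Choosing the equation, and the ideal of the cut out closed subscheme -/

set_option autoImplicit false
set_option linter.style.haveILetI false
universe u

open CategoryTheory CategoryTheory.Limits AlgebraicGeometry IsLocalRing

namespace Groth.Agent.GrpdSlice19

variable {P Y W : Scheme.{u}}

theorem fromSpecStalk_mem_basicOpen {X : Scheme.{u}} (x : X) (s : Γ(X, ⊤))
    (q : Spec (X.presheaf.stalk x)) :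
    X.fromSpecStalk x q ∈ X.basicOpen s ↔ X.presheaf.germ ⊤ x trivial s ∉ q.asIdeal := by
  have e : (X.fromSpecStalk x).appTop = X.presheaf.germ ⊤ x trivial ≫ (Scheme.ΓSpecIso _).inv := by
    rw [Scheme.fromSpecStalk_appTop, show (homOfLE le_top : (⊤ : (Spec (X.presheaf.stalk x)).Opens) ⟶ ⊤).op = 𝟙 _
      from rfl, CategoryTheory.Functor.map_id, Category.comp_id]
  rw [← Scheme.Hom.mem_preimage, Scheme.preimage_basicOpen_top, e, CommRingCat.comp_apply,
    basicOpen_eq_of_affine]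
  exact Iff.rfl

theorem isoSpec_inv_appTop (X : Scheme.{u}) [IsAffine X] :
    X.isoSpec.inv.appTop = (Scheme.ΓSpecIso Γ(X, ⊤)).inv := by
  have h := congrArg Scheme.Hom.appTop X.isoSpec.inv_hom_id
  rw [Scheme.Hom.comp_appTop, Scheme.isoSpec_hom, Scheme.toSpecΓ_appTop, Scheme.Hom.id_appTop] at h
  exact (Iso.hom_comp_eq_id _).1 h

theorem eq_of_specializes_of_forall_notMem {W : Scheme.{u}} [IsAffine W] {z w : W} (hzw : z ⤳ w)
    (h : ∀ f : Γ(W, ⊤), w ∉ W.basicOpen f → z ∉ W.basicOpen f) : z = w := by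
  refine (Specializes.antisymm hzw (specializes_iff_forall_open.2 fun V hV hz => ?_)).eq
  obtain ⟨f, hf, hzf⟩ := (isAffineOpen_top W).exists_basicOpen_le (⟨z, hz⟩ : (⟨V, hV⟩ : W.Opens)) trivial
  by_contra hw
  exact h f (fun h' => hw (hf h')) hzf

/-- Prime avoidance: an equation regular on the fibre. -/
theorem exists_equation [IsAffine W] (f : P ⟶ Y) [LocallyOfFiniteType f] (φ : P ⟶ W) (p : P)
    (hcm : Grpd.IsCMAt f p)
    (hlt : ∀ ξ : P, ξ ⤳ p → f ξ = f p → φ ξ = φ p →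
      (FibDim14.rd f ξ : WithBot ℕ∞) ≠ FlatMor.fibreDimAt f p) :
    ∃ a : Γ(W, ⊤), φ p ∉ W.basicOpen a ∧
      P.presheaf.germ ⊤ p trivial (φ.appTop a) ∈ maximalIdeal (P.presheaf.stalk p) ∧
      Ideal.Quotient.mk ((maximalIdeal (Y.presheaf.stalk (f p))).map (f.stalkMap p).hom)
          (P.presheaf.germ ⊤ p trivial (φ.appTop a)) ∈
        nonZeroDivisors (P.presheaf.stalk p ⧸ (maximalIdeal (Y.presheaf.stalk (f p))).map (f.stalkMap p).hom) := by
  classical
  let St := P.presheaf.stalk p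
  let A := Y.presheaf.stalk (f p)
  let ψ : A →+* St := (f.stalkMap p).hom
  let I := (maximalIdeal A).map ψ
  let L := St ⧸ I
  haveI hL : LocCoh.IsCohenMacaulayLocalRing L := hcm.2
  let γ : Γ(W, ⊤) →+* St := (P.presheaf.germ ⊤ p trivial).hom.comp φ.appTop.hom
  have hnotMem : ∀ (a : Γ(W, ⊤)) (ξ : P) (q : Spec (P.presheaf.stalk p)),
      P.fromSpecStalk p q = ξ → (φ ξ ∈ W.basicOpen a ↔ γ a ∉ q.asIdeal) := by
    rintro a _ q rfl
    rw [← Scheme.Hom.mem_preimage, Scheme.preimage_basicOpen_top, fromSpecStalk_mem_basicOpen]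
    rfl
  have hp0 : P.fromSpecStalk p (closedPoint St) = p := Scheme.fromSpecStalk_closedPoint
  let Iw : Ideal Γ(W, ⊤) := (maximalIdeal St).comap γ
  have hIw : ∀ a, a ∈ Iw ↔ φ p ∉ W.basicOpen a := fun a => by
    rw [hnotMem a p _ hp0, not_not]
    rfl
  let S := (associatedPrimes.finite L L).toFinset
  have key : ¬ ((Iw : Set Γ(W, ⊤)) ⊆
      ⋃ Q ∈ (↑S : Set (Ideal L)), ((Q.comap ((Ideal.Quotient.mk I).comp γ) : Ideal Γ(W, ⊤)) : Set Γ(W, ⊤))) := by
    intro hsub
    obtain ⟨Q, hQ, hle⟩ := (Ideal.subset_union_prime (s := S)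
      (f := fun Q : Ideal L => Q.comap ((Ideal.Quotient.mk I).comp γ)) ⊥ ⊥
      (fun Q hQ _ _ => by
        haveI := ((Set.Finite.mem_toFinset _).1 hQ).isPrime
        exact Ideal.IsPrime.comap _)).1 hsub
    rw [Set.Finite.mem_toFinset] at hQ
    haveI hQp : Q.IsPrime := hQ.isPrime
    let q : Spec (P.presheaf.stalk p) := ⟨Q.comap (Ideal.Quotient.mk I), Ideal.IsPrime.comap _⟩
    have hIq : I ≤ q.asIdeal := fun x hx => by
      show Ideal.Quotient.mk I x ∈ Q
      rw [Ideal.Quotient.eq_zero_iff_mem.2 hx]; exact zero_mem _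
    have hfq : ∀ q' : Spec (P.presheaf.stalk p), f (P.fromSpecStalk p q') = f p ↔ I ≤ q'.asIdeal := by
      intro q'
      rw [← Scheme.Hom.comp_apply, ← Scheme.SpecMap_stalkMap_fromSpecStalk, Scheme.Hom.comp_apply]
      conv_lhs => rhs; rw [← Scheme.fromSpecStalk_closedPoint (X := Y) (x := f p)]
      rw [(Y.fromSpecStalk (f p)).isEmbedding.injective.eq_iff]
      refine ⟨fun h => Ideal.map_le_iff_le_comap.2 (le_of_eq (congrArg PrimeSpectrum.asIdeal h).symm),
        fun h => PrimeSpectrum.ext ((maximalIdeal.isMaximal A).eq_of_le ?_ (Ideal.map_le_iff_le_comap.1 h)).symm⟩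
      exact (q'.isPrime.comap ψ).ne_top
    let ξ := P.fromSpecStalk p q
    have hξp : ξ ⤳ p := by
      have h : ξ ∈ Set.range (P.fromSpecStalk p) := ⟨q, rfl⟩
      rw [Scheme.range_fromSpecStalk] at h
      exact h
    have hfξ : f ξ = f p := (hfq q).2 hIq
    have hφξ : φ ξ = φ p := eq_of_specializes_of_forall_notMem (hξp.map φ.continuous) fun a ha =>
      fun h => (hnotMem a ξ q rfl).1 h (hle ((hIw a).2 ha))
    have hmax : FibDim14.IsMaxFib f ξ := by
      intro w hw he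
      have hwp : w ∈ Set.range (P.fromSpecStalk p) := by
        rw [Scheme.range_fromSpecStalk]; exact hw.trans hξp
      obtain ⟨q', rfl⟩ := hwp
      have hle' : q'.asIdeal ≤ q.asIdeal :=
        (PrimeSpectrum.le_iff_specializes q' q).2 ((P.fromSpecStalk p).isEmbedding.isInducing.specializes_iff.1 hw)
      have hI' : I ≤ q'.asIdeal := (hfq q').1 (he.trans hfξ)
      haveI : (q'.asIdeal.map (Ideal.Quotient.mk I)).IsPrime :=
        Ideal.map_isPrime_of_surjective Ideal.Quotient.mk_surjective (by rwa [Ideal.mk_ker])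
      have h := eq_of_le_of_mem_associatedPrimes hQ
        (q := q'.asIdeal.map (Ideal.Quotient.mk I)) (Ideal.map_le_iff_le_comap.2 hle')
      refine congrArg (P.fromSpecStalk p) (PrimeSpectrum.ext ?_)
      show q'.asIdeal = Q.comap (Ideal.Quotient.mk I)
      rw [← h, Ideal.comap_map_of_surjective _ Ideal.Quotient.mk_surjective, ← RingHom.ker_eq_comap_bot,
        Ideal.mk_ker, sup_eq_left.2 hI']
    refine hlt ξ hξp hfξ hφξ ?_
    rw [← FibGen4.fibreDimAt_eq_rd_of_isMaxFib f hmax]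
    refine CMEquiDim4.fibreDimAt_eq_of_isCM f ?_ hξp hfξ
    obtain ⟨e⟩ := FlatDepth.nonempty_fiberStalkEquiv f p
    exact SMT.isCM_of_ringEquiv e hcm.2
  obtain ⟨a, haI, ha⟩ := Set.not_subset.1 key
  refine ⟨a, (hIw a).1 haI, haI, ?_⟩
  have h : Ideal.Quotient.mk I (γ a) ∉ ⋃ Q ∈ associatedPrimes L L, (Q : Set L) := by
    intro h
    obtain ⟨Q, hQ, h⟩ := Set.mem_iUnion₂.1 h
    exact ha (Set.mem_iUnion₂.2 ⟨Q, (Set.Finite.mem_toFinset _).2 hQ, h⟩)
  rw [biUnion_associatedPrimes_eq_compl_nonZeroDivisors] at h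
  exact not_not.1 h

section Cut

variable [IsAffine W] (a : Γ(W, ⊤))

/-- The closed subscheme of an affine scheme cut out by one global function. -/
noncomputable def cutι : Spec (CommRingCat.of (Γ(W, ⊤) ⧸ Ideal.span {a})) ⟶ W :=
  Spec.map (CommRingCat.ofHom (Ideal.Quotient.mk (Ideal.span {a}))) ≫ W.isoSpec.inv

instance : IsClosedImmersion (cutι a) := by
  haveI : IsClosedImmersion (Spec.map (CommRingCat.ofHom (Ideal.Quotient.mk (Ideal.span {a})))) :=
    IsClosedImmersion.spec_of_surjective _ Ideal.Quotient.mk_surjective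
  unfold cutι
  infer_instance

instance : LocallyOfFinitePresentation (cutι a) := by
  haveI : LocallyOfFinitePresentation (Spec.map (CommRingCat.ofHom (Ideal.Quotient.mk (Ideal.span {a})))) := by
    rw [HasRingHomProperty.Spec_iff (P := @LocallyOfFinitePresentation)]
    exact RingHom.FinitePresentation.of_surjective _ Ideal.Quotient.mk_surjective
      ⟨{a}, by simp⟩
  unfold cutι
  infer_instance

theorem cutι_appTop : (cutι a).appTop a = 0 := by
  have h : (cutι a).appTop = (Scheme.ΓSpecIso Γ(W, ⊤)).inv ≫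
      (Spec.map (CommRingCat.ofHom (Ideal.Quotient.mk (Ideal.span {a})))).appTop := by
    rw [cutι, Scheme.Hom.comp_appTop, isoSpec_inv_appTop]
  rw [h, ← Scheme.ΓSpecIso_inv_naturality, CommRingCat.comp_apply]
  show (Scheme.ΓSpecIso (CommRingCat.of (Γ(W, ⊤) ⧸ Ideal.span {a}))).inv (Ideal.Quotient.mk (Ideal.span {a}) a) = 0
  rw [Ideal.Quotient.eq_zero_iff_mem.2 (Ideal.mem_span_singleton_self a), map_zero]

theorem exists_cutι_eq {w : W} (hw : w ∉ W.basicOpen a) : ∃ z, cutι a z = w := by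
  obtain ⟨q, rfl⟩ : ∃ q, W.isoSpec.inv q = w := ⟨W.isoSpec.hom w, by rw [← Scheme.Hom.comp_apply, W.isoSpec.hom_inv_id]; rfl⟩
  have hq : a ∈ q.asIdeal := by
    by_contra h
    apply hw
    rw [← Scheme.Hom.mem_preimage, Scheme.preimage_basicOpen_top, isoSpec_inv_appTop,
      basicOpen_eq_of_affine]
    exact h
  obtain ⟨z, hz⟩ : q ∈ Set.range (PrimeSpectrum.comap (Ideal.Quotient.mk (Ideal.span {a}))) := by
    rw [range_comap_of_surjective _ _ Ideal.Quotient.mk_surjective, Ideal.mk_ker,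
      ]
    show ↑(Ideal.span {a}) ⊆ (q.asIdeal : Set Γ(W, ⊤))
    exact SetLike.coe_subset_coe.2 ((Ideal.span_singleton_le_iff_mem _).2 hq)
  exact ⟨z, congrArg (fun x => W.isoSpec.inv x) hz⟩

/-- The kernel on stalks of the base change of `cutι a`. -/
theorem ker_stalkMap_cut {Z : Scheme.{u}} {k : Z ⟶ P} {ψ : Z ⟶ Spec (CommRingCat.of (Γ(W, ⊤) ⧸ Ideal.span {a}))}
    {φ : P ⟶ W} (sq : IsPullback k ψ φ (cutι a)) [IsClosedImmersion k] (z : Z) :
    RingHom.ker (k.stalkMap z).hom = Ideal.span {P.presheaf.germ ⊤ (k z) trivial (φ.appTop a)} := by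
  obtain ⟨O, hO, hzO, -⟩ := exists_isAffineOpen_mem_and_subset (X := P) (x := k z) (U := ⊤) trivial
  let aO : Γ(P, O) := φ.appLE ⊤ O le_top a
  suffices h : RingHom.ker (k.app O).hom = Ideal.span {aO} by
    rw [RegImm26.ker_stalkMap_eq k z hO hzO, h, Ideal.map_span, Set.image_singleton]
    congr 2
    exact P.presheaf.germ_res_apply (homOfLE le_top) (k z) hzO _
  apply le_antisymm
  · intro x hx
    rw [RingHom.mem_ker] at hx
    let mk := CommRingCat.ofHom (Ideal.Quotient.mk (Ideal.span {aO}))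
    let bar : CommRingCat.of (Γ(W, ⊤) ⧸ Ideal.span {a}) ⟶ CommRingCat.of (Γ(P, O) ⧸ Ideal.span {aO}) :=
      CommRingCat.ofHom (Ideal.quotientMap _ (φ.appLE ⊤ O le_top).hom (by
        rw [Ideal.span_singleton_le_iff_mem]
        exact Ideal.mem_span_singleton_self aO))
    let j := Spec.map mk ≫ hO.fromSpec
    have hj : j ≫ φ = Spec.map bar ≫ cutι a := by
      rw [Category.assoc, cutι, ← IsAffineOpen.fromSpec_top,
        ← IsAffineOpen.SpecMap_appLE_fromSpec φ (isAffineOpen_top W) hO le_top, ← Category.assoc,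
        ← Category.assoc, ← Spec.map_comp, ← Spec.map_comp]
      rfl
    let l := sq.lift j (Spec.map bar) hj
    have hl : l ≫ k = j := sq.lift_fst _ _ _
    have hjO : (⊤ : (Spec (CommRingCat.of (Γ(P, O) ⧸ Ideal.span {aO}))).Opens) ≤ j ⁻¹ᵁ O := by
      rw [Scheme.Hom.comp_preimage, hO.fromSpec_preimage_self, Scheme.Hom.preimage_top]
    have h1 : (l ≫ k).appLE O ⊤ (by rw [hl]; exact hjO) x = 0 := by
      rw [Scheme.Hom.comp_appLE, CommRingCat.comp_apply,
        show (k.app O).hom x = 0 from hx, map_zero]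
    simp only [hl] at h1
    have h2 : j.appLE O ⊤ hjO = mk ≫ (Scheme.ΓSpecIso _).inv := by
      rw [Scheme.Hom.comp_appLE, hO.fromSpec_app_self, Category.assoc, Scheme.Hom.map_appLE,
        Scheme.ΓSpecIso_inv_naturality]
      rfl
    rw [h2, CommRingCat.comp_apply] at h1
    have h3 : mk.hom x = 0 := (Scheme.ΓSpecIso _).symm.commRingCatIsoToRingEquiv.injective
      (h1.trans (map_zero _).symm)
    exact Ideal.Quotient.eq_zero_iff_mem.1 h3
  · rw [Ideal.span_singleton_le_iff_mem, RingHom.mem_ker]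
    show (φ.appLE ⊤ O le_top ≫ k.app O) a = 0
    rw [Scheme.Hom.app_eq_appLE, Scheme.Hom.appLE_comp_appLE]
    simp only [sq.w]
    rw [← Scheme.Hom.appLE_comp_appLE ψ (cutι a) ⊤ ⊤ (k ⁻¹ᵁ O) le_top le_top, CommRingCat.comp_apply]
    rw [show (cutι a).appLE ⊤ ⊤ le_top a = 0 from
      (congrArg (fun m => CommRingCat.Hom.hom m a) (Scheme.Hom.app_eq_appLE (cutι a)).symm).trans (cutι_appTop a), map_zero]

end Cut

end Groth.Agent.GrpdSlice19
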