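import Groth.Agent.Lib.FlatH4.SliceFlat
import Groth.Agent.Lib.FlatH4.FlatLocusScheme
import Groth.Agent.Lib.Slice.CMFlat
import Groth.Agent.Lib.FlatDepth.FibreStalk
import Groth.Agent.Lib.CMEquiDim4
import Groth.Agent.Lib.FibGenSch4
import Groth.Agent.Lib.FibDim14.Comp
import Groth.Agent.Lib.Depth.CM
import Groth.Prelude.Def_Grpd
import Mathlib

/-! # Cutting down a Cohen–Macaulay point of a fibre by one equation -/

set_option autoImplicit false
set_option linter.style.haveILetI false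
universe u

open CategoryTheory CategoryTheory.Limits AlgebraicGeometry IsLocalRing Polynomial

namespace Groth.Agent.GrpdSlice19

theorem eq_of_le_of_mem_associatedPrimes {L : Type u} [CommRing L] [IsNoetherianRing L] [IsLocalRing L]
    [hL : LocCoh.IsCohenMacaulayLocalRing L] {p q : Ideal L} (hp : p ∈ associatedPrimes L L) [q.IsPrime]
    (hqp : q ≤ p) : q = p := by
  by_contra hne
  obtain ⟨a, hap, haq⟩ := SetLike.exists_of_lt (lt_of_le_of_ne hqp hne)
  have h1 := DepthLib.ringKrullDim_quotient_eq_of_mem_associatedPrimes hL.supportDim_eq_depth hp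
  rw [Module.supportDim_self_eq_ringKrullDim] at h1
  have ha : Ideal.Quotient.mk q a ∈ nonZeroDivisors (L ⧸ q) := by
    refine mem_nonZeroDivisors_of_ne_zero fun h => haq (Ideal.Quotient.eq_zero_iff_mem.1 h)
  let f : (L ⧸ q) ⧸ Ideal.span {Ideal.Quotient.mk q a} →+* L ⧸ p :=
    Ideal.Quotient.lift _ (Ideal.Quotient.factor hqp) (by
      intro x hx
      obtain ⟨c, rfl⟩ := Ideal.mem_span_singleton'.1 hx
      rw [map_mul, Ideal.Quotient.factor_mk, Ideal.Quotient.eq_zero_iff_mem.2 hap, mul_zero])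
  have hf : Function.Surjective f := fun x => by
    obtain ⟨x, rfl⟩ := Ideal.Quotient.mk_surjective x
    exact ⟨Ideal.Quotient.mk _ (Ideal.Quotient.mk q x), rfl⟩
  have h2 : ringKrullDim (L ⧸ p) + 1 ≤ ringKrullDim L :=
    ((add_le_add_left (ringKrullDim_le_of_surjective f hf) 1).trans
      (ringKrullDim_quotient_succ_le_of_nonZeroDivisor ha)).trans
      (ringKrullDim_le_of_surjective _ Ideal.Quotient.mk_surjective)
  rw [h1] at h2
  obtain ⟨n, hn⟩ := DepthLib.exists_supportDim_eq_natCast (R := L) (M := L)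
  rw [Module.supportDim_self_eq_ringKrullDim] at hn
  rw [hn] at h2
  have h3 : n + 1 ≤ n := by exact_mod_cast h2
  omega

variable {X Y : Scheme.{u}}

/-- An element regular on the fibre cuts out something flat over the base. -/
theorem flat_quot_stalk (f : X ⟶ Y) [LocallyOfFinitePresentation f] (x : X) (hflat : (f.stalkMap x).hom.Flat)
    (b : X.presheaf.stalk x) (hm : b ∈ maximalIdeal (X.presheaf.stalk x))
    (hreg : Ideal.Quotient.mk ((maximalIdeal (Y.presheaf.stalk (f x))).map (f.stalkMap x).hom) b ∈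
      nonZeroDivisors (X.presheaf.stalk x ⧸ (maximalIdeal (Y.presheaf.stalk (f x))).map (f.stalkMap x).hom)) :
    ((Ideal.Quotient.mk (Ideal.span {b})).comp (f.stalkMap x).hom).Flat := by
  obtain ⟨V, hV, hfxV, -⟩ := exists_isAffineOpen_mem_and_subset (X := Y) (x := f x) (U := ⊤) trivial
  obtain ⟨U₁, hxU₁, h₁, hgerm⟩ := X.presheaf.exists_germ_eq b
  obtain ⟨W, hW, hxW, hWle⟩ :=
    exists_isAffineOpen_mem_and_subset (X := X) (x := x) (U := U₁ ⊓ f ⁻¹ᵁ V) ⟨hxU₁, hfxV⟩
  have hWU₁ : W ≤ U₁ := fun z hz => (hWle hz).1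
  have hWV : W ≤ f ⁻¹ᵁ V := fun z hz => (hWle hz).2
  let h₀ : Γ(X, W) := X.presheaf.map (homOfLE hWU₁).op h₁
  have hgerm₀ : X.presheaf.germ W x hxW h₀ = b :=
    (X.presheaf.germ_res_apply (homOfLE hWU₁) x hxW h₁).trans hgerm
  let α := f.appLE V W hWV
  letI : Algebra Γ(Y, V) Γ(X, W) := α.hom.toAlgebra
  haveI : Algebra.FinitePresentation Γ(Y, V) Γ(X, W) := f.finitePresentation_appLE hV hW hWV
  let q := (hW.primeIdealOf ⟨x, hxW⟩).asIdeal
  letI : Algebra Γ(X, W) (X.presheaf.stalk x) := X.presheaf.algebra_section_stalk ⟨x, hxW⟩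
  haveI hloc : IsLocalization.AtPrime (X.presheaf.stalk x) q := hW.isLocalization_stalk ⟨x, hxW⟩
  letI : Algebra Γ(Y, V) (Y.presheaf.stalk (f x)) := Y.presheaf.algebra_section_stalk ⟨f x, hfxV⟩
  let p := (hV.primeIdealOf ⟨f x, hfxV⟩).asIdeal
  haveI hlocY : IsLocalization.AtPrime (Y.presheaf.stalk (f x)) p := hV.isLocalization_stalk ⟨f x, hfxV⟩
  have hp : q.comap (algebraMap Γ(Y, V) Γ(X, W)) = p := by
    exact congr($(IsAffineOpen.comap_primeIdealOf_appLE V hV W hW hWV hxW).1)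
  have hcomp : ∀ r, f.stalkMap x (algebraMap Γ(Y, V) (Y.presheaf.stalk (f x)) r) =
      algebraMap Γ(X, W) (X.presheaf.stalk x) (algebraMap Γ(Y, V) Γ(X, W) r) := fun r => by
    show f.stalkMap x (Y.presheaf.germ V (f x) hfxV r) = X.presheaf.germ W x hxW (α r)
    rw [Scheme.Hom.germ_stalkMap_apply]
    exact (X.presheaf.germ_res_apply (homOfLE hWV) x hxW _).symm
  have hhq : h₀ ∈ q := by
    by_contra hc
    have := IsLocalization.map_units (X.presheaf.stalk x) (⟨h₀, hc⟩ : q.primeCompl)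
    exact (mem_maximalIdeal _).1 hm (by rw [← hgerm₀]; exact this)
  have hmS : (maximalIdeal (Y.presheaf.stalk (f x))).map (f.stalkMap x).hom =
      ((q.comap (algebraMap Γ(Y, V) Γ(X, W))).map (algebraMap Γ(Y, V) Γ(X, W))).map
        (algebraMap Γ(X, W) (X.presheaf.stalk x)) := by
    rw [← IsLocalization.AtPrime.map_eq_maximalIdeal p (Y.presheaf.stalk (f x)), hp, Ideal.map_map,
      Ideal.map_map]
    congr 1
    ext r
    exact hcomp r
  haveI : Module.Flat Γ(Y, V) (LocalizedModule q.primeCompl Γ(X, W)) :=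
    (FlatH4.flat_stalkMap_iff f V hV W hW hWV hxW).1 hflat
  letI : Algebra (Polynomial Γ(Y, V)) Γ(X, W) := (Polynomial.aeval h₀).toRingHom.toAlgebra
  haveI : IsScalarTower Γ(Y, V) (Polynomial Γ(Y, V)) Γ(X, W) :=
    IsScalarTower.of_algebraMap_eq fun a => ((Polynomial.aeval h₀).commutes a).symm
  have hX : algebraMap (Polynomial Γ(Y, V)) Γ(X, W) Polynomial.X = h₀ := Polynomial.aeval_X h₀
  haveI : Module.Flat (Polynomial Γ(Y, V)) (LocalizedModule q.primeCompl Γ(X, W)) := by
    refine FlatH4.flat_localized_polynomial q (by rw [hX]; exact hhq) ?_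
    intro c t ht hmem
    rw [hX] at hmem
    have h1 := Ideal.mem_map_of_mem (algebraMap Γ(X, W) (X.presheaf.stalk x)) hmem
    rw [map_mul, map_mul, mul_assoc,
      (IsLocalization.map_units (X.presheaf.stalk x) (⟨t, ht⟩ : q.primeCompl)).unit_spec.symm,
      Ideal.unit_mul_mem_iff_mem _ (IsUnit.unit _).isUnit,
      show algebraMap Γ(X, W) (X.presheaf.stalk x) h₀ = b from hgerm₀, ← hmS,
      ← Ideal.Quotient.eq_zero_iff_mem, map_mul, mul_comm] at h1
    have hc := Ideal.Quotient.eq_zero_iff_mem.1 ((mem_nonZeroDivisors_iff_right.1 hreg) _ h1)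
    rw [hmS, IsLocalization.algebraMap_mem_map_algebraMap_iff q.primeCompl] at hc
    exact hc
  let St := X.presheaf.stalk x
  letI : Algebra (Polynomial Γ(Y, V)) St := ((algebraMap Γ(X, W) St).comp (algebraMap (Polynomial Γ(Y, V)) Γ(X, W))).toAlgebra
  haveI : IsScalarTower (Polynomial Γ(Y, V)) Γ(X, W) St := IsScalarTower.of_algebraMap_eq fun _ => rfl
  letI : Algebra Γ(Y, V) St := ((algebraMap Γ(X, W) St).comp (algebraMap Γ(Y, V) Γ(X, W))).toAlgebra
  haveI : IsScalarTower Γ(Y, V) (Polynomial Γ(Y, V)) St := IsScalarTower.of_algebraMap_eq fun a => by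
    show _ = algebraMap Γ(X, W) St (algebraMap (Polynomial Γ(Y, V)) Γ(X, W) (algebraMap Γ(Y, V) (Polynomial Γ(Y, V)) a))
    rw [← IsScalarTower.algebraMap_apply Γ(Y, V) (Polynomial Γ(Y, V)) Γ(X, W)]
    rfl
  haveI : Module.Flat (Polynomial Γ(Y, V)) St := Module.Flat.of_linearEquiv
    ((IsLocalizedModule.iso q.primeCompl (Algebra.linearMap Γ(X, W) St)).restrictScalars (Polynomial Γ(Y, V))).symm
  let I : Ideal (Polynomial Γ(Y, V)) := Ideal.span {Polynomial.X}
  haveI : Module.Flat Γ(Y, V) ((Polynomial Γ(Y, V)) ⧸ I) := by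
    have e : ((Polynomial Γ(Y, V)) ⧸ Ideal.span ({Polynomial.X - Polynomial.C 0} : Set (Polynomial Γ(Y, V)))) ≃ₐ[Γ(Y, V)] Γ(Y, V) :=
      Polynomial.quotientSpanXSubCAlgEquiv 0
    rw [map_zero, sub_zero] at e
    exact Module.Flat.of_linearEquiv e.toLinearEquiv
  haveI : Module.Flat Γ(Y, V) (TensorProduct (Polynomial Γ(Y, V)) ((Polynomial Γ(Y, V)) ⧸ I) St) :=
    Module.Flat.trans Γ(Y, V) ((Polynomial Γ(Y, V)) ⧸ I) _
  have hLX : algebraMap (Polynomial Γ(Y, V)) St Polynomial.X = b := (congrArg (algebraMap Γ(X, W) St) hX).trans hgerm₀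
  have hI : (I • ⊤ : Submodule (Polynomial Γ(Y, V)) St) = (Ideal.span {b}).restrictScalars (Polynomial Γ(Y, V)) := by
    rw [Ideal.smul_top_eq_map, Ideal.map_span, Set.image_singleton, hLX]
  haveI : Module.Flat Γ(Y, V) (St ⧸ Ideal.span {b}) :=
    Module.Flat.of_linearEquiv (((TensorProduct.quotTensorEquivQuotSMul St I).trans
      ((Submodule.quotEquivOfEq _ _ hI).trans
        (Submodule.Quotient.restrictScalarsEquiv (Polynomial Γ(Y, V)) _))).restrictScalars Γ(Y, V)).symm
  let φ := (Ideal.Quotient.mk (Ideal.span {b})).comp (f.stalkMap x).hom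
  letI : Algebra (Y.presheaf.stalk (f x)) (St ⧸ Ideal.span {b}) := φ.toAlgebra
  haveI : IsScalarTower Γ(Y, V) (Y.presheaf.stalk (f x)) (St ⧸ Ideal.span {b}) :=
    IsScalarTower.of_algebraMap_eq fun r => (congrArg (Ideal.Quotient.mk (Ideal.span {b})) (hcomp r)).symm
  exact (Module.flat_iff_of_isLocalization (Y.presheaf.stalk (f x)) p.primeCompl (St ⧸ Ideal.span {b})).2
    inferInstance

/-- Slicing a Cohen–Macaulay point of a fibre by an element regular on the fibre. -/
theorem isCMAt_slice {Z P : Scheme.{u}} (f : P ⟶ Y) [LocallyOfFinitePresentation f] (k : Z ⟶ P)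
    [IsClosedImmersion k] (z : Z) (b : P.presheaf.stalk (k z))
    (hker : RingHom.ker (k.stalkMap z).hom = Ideal.span {b})
    (hcm : Grpd.IsCMAt f (k z)) (hrd : FibDim14.rd f (k z) = 0)
    (hm : b ∈ maximalIdeal (P.presheaf.stalk (k z)))
    (hreg : Ideal.Quotient.mk ((maximalIdeal (Y.presheaf.stalk (f (k z)))).map (f.stalkMap (k z)).hom) b ∈
      nonZeroDivisors (P.presheaf.stalk (k z) ⧸
        (maximalIdeal (Y.presheaf.stalk (f (k z)))).map (f.stalkMap (k z)).hom)) :
    Grpd.IsCMAt (k ≫ f) z ∧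
      FlatMor.fibreDimAt (k ≫ f) z + 1 = FlatMor.fibreDimAt f (k z) := by
  let A := Y.presheaf.stalk (f (k z))
  let ψ : A →+* P.presheaf.stalk (k z) := (f.stalkMap (k z)).hom
  let σ : P.presheaf.stalk (k z) →+* Z.presheaf.stalk z := (k.stalkMap z).hom
  let I := (maximalIdeal A).map ψ
  let L := P.presheaf.stalk (k z) ⧸ I
  have hσ : Function.Surjective σ := k.stalkMap_surjective z
  have hst : ((k ≫ f).stalkMap z).hom = σ.comp ψ := by
    rw [Scheme.Hom.stalkMap_comp]; rfl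
  let e : (P.presheaf.stalk (k z) ⧸ Ideal.span {b}) ≃+* Z.presheaf.stalk z :=
    (Ideal.quotEquivOfEq hker.symm).trans (RingHom.quotientKerEquivOfSurjective hσ)
  have hflat : (σ.comp ψ).Flat := by
    have h := (flat_quot_stalk f (k z) hcm.1 b hm hreg).comp (RingHom.Flat.of_bijective (f := e.toRingHom) e.bijective)
    exact h
  haveI hL : LocCoh.IsCohenMacaulayLocalRing L := hcm.2
  have hbm : Ideal.Quotient.mk I b ∈ maximalIdeal L := by
    rw [mem_maximalIdeal]
    intro hu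
    obtain ⟨c, hc⟩ := hu.exists_right_inv
    obtain ⟨c, rfl⟩ := Ideal.Quotient.mk_surjective c
    rw [← map_mul, ← map_one (Ideal.Quotient.mk I), Ideal.Quotient.eq] at hc
    have hI : I ≤ maximalIdeal _ := by
      haveI : IsLocalHom ψ := f.toLRSHom.prop (k z)
      exact map_maximalIdeal_le ψ
    have h1 : (1 : P.presheaf.stalk (k z)) ∈ maximalIdeal _ := by
      have := sub_mem (Ideal.mul_mem_right c _ hm) (hI hc)
      rwa [sub_sub_cancel] at this
    exact (mem_maximalIdeal _).1 h1 isUnit_one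
  have hregb : IsSMulRegular L (Ideal.Quotient.mk I b) :=
    isSMulRegular_iff_right_eq_zero_of_smul.2 fun x hx =>
      (mem_nonZeroDivisors_iff.1 hreg).1 x hx
  obtain ⟨hcm', hdim⟩ := Slice.isCM_quotient_span_singleton hbm hregb
  let e' : (L ⧸ Ideal.span {Ideal.Quotient.mk I b}) ≃+*
      Z.presheaf.stalk z ⧸ (maximalIdeal A).map (σ.comp ψ) :=
    ((Ideal.quotEquivOfEq (by rw [Ideal.map_span, Set.image_singleton])).trans
      (DoubleQuot.quotQuotEquivComm I (Ideal.span {b}))).trans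
      (Ideal.quotientEquiv _ _ e (by
        rw [Ideal.map_map, Ideal.map_map]
        congr 1))
  have hcm2 : LocCoh.IsCohenMacaulayLocalRing (Z.presheaf.stalk z ⧸ (maximalIdeal A).map (σ.comp ψ)) :=
    SMT.isCM_of_ringEquiv e' hcm'
  refine ⟨?_, ?_⟩
  · unfold Grpd.IsCMAt
    refine ⟨?_, ?_⟩
    · show ((k ≫ f).stalkMap z).hom.Flat
      rw [hst]; exact hflat
    · rw [hst]; exact hcm2
  · haveI : LocallyOfFiniteType k := inferInstance
    rw [FibDim14.localDim_asFiber_eq, FibDim14.localDim_asFiber_eq, hrd, FibDim14.rd_comp k f z, hrd,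
      show FibDim14.rd k z = 0 by rw [FibDim14.rd, FibDim14.rdeg_eq_zero]; simp]
    have h₁ := FlatDepth.nonempty_fiberStalkEquiv (k ≫ f) z
    rw [hst] at h₁
    obtain ⟨e₁⟩ := h₁
    obtain ⟨e₂⟩ := FlatDepth.nonempty_fiberStalkEquiv f (k z)
    rw [show ringKrullDim ((f.fiber (f (k z))).presheaf.stalk (f.asFiber (k z))) = ringKrullDim L from
      (ringKrullDim_eq_of_ringEquiv e₂).symm, ← hdim,
      show ringKrullDim (((k ≫ f).fiber ((k ≫ f) z)).presheaf.stalk ((k ≫ f).asFiber z)) =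
        ringKrullDim (L ⧸ Ideal.span {Ideal.Quotient.mk I b}) from ?_]
    · simp; rfl
    · exact (ringKrullDim_eq_of_ringEquiv e₁).symm.trans (ringKrullDim_eq_of_ringEquiv e').symm

end Groth.Agent.GrpdSlice19
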